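import Mathlib
import Cfsg.Agent.Lib.ZStar.Fus
import Cfsg.Agent.Lib.ZStar.Main
import Cfsg.Agent.Lib.ZStar.Q8Basic

/-!
# Isolated `2`-elements

If a `2`-element `a` of a finite group `X` is isolated, i.e. every conjugate of `a` that commutes with
`a` equals `a`, then `a` is central modulo `O(X)`.  This generalises Glauberman's `Z*`-theorem
from involutions to `2`-elements.
-/

set_option autoImplicit false
set_option linter.unusedSectionVars false

namespace Cfsg.Agent.Lib.IsoTwo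

open Subgroup Cfsg

universe u

/-- `a` is isolated: a conjugate of `a` commuting with `a` equals `a`. -/
def Isol {X : Type*} [Group X] (a : X) : Prop :=
  ∀ g : X, Commute (g * a * g⁻¹) a → g * a * g⁻¹ = a

section
variable {X : Type u} [Group X] [Finite X]

/-- An isolated element of a Sylow `2`-subgroup is central in it. -/
theorem central_in_sylow (S : Sylow 2 X) {a : X} (ha : a ∈ (S : Subgroup X)) (hiso : Isol a) :
    ∀ s ∈ (S : Subgroup X), s * a = a * s := by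
  classical
  haveI : Fact (Nat.Prime 2) := ⟨Nat.prime_two⟩
  by_contra hcon
  push Not at hcon
  obtain ⟨s₀, hs₀, hne⟩ := hcon
  haveI : Finite (S : Subgroup X) := inferInstance
  haveI hnil : Group.IsNilpotent (S : Subgroup X) := S.isPGroup'.isNilpotent
  let C : Subgroup (S : Subgroup X) := Subgroup.centralizer {(⟨a, ha⟩ : (S : Subgroup X))}
  have hmemC : ∀ x : (S : Subgroup X), x ∈ C ↔ (x : X) * a = a * x := by
    intro x
    rw [Subgroup.mem_centralizer_singleton_iff]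
    constructor
    · intro h
      have := congrArg Subtype.val h
      simpa using this
    · intro h
      exact Subtype.ext (by simpa using h)
  have hC : C < ⊤ := by
    rw [lt_top_iff_ne_top]
    intro h
    have : (⟨s₀, hs₀⟩ : (S : Subgroup X)) ∈ C := by rw [h]; trivial
    exact hne ((hmemC _).1 this)
  have hN : C < normalizer (C : Set (S : Subgroup X)) :=
    Group.normalizerCondition_of_isNilpotent _ hC
  obtain ⟨s, hsN, hsC⟩ := SetLike.exists_of_lt hN
  have haC : (⟨a, ha⟩ : (S : Subgroup X)) ∈ C := (hmemC _).2 rfl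
  -- `s a s⁻¹` commutes with `a`
  have h1 : Commute ((s : X) * a * (s : X)⁻¹) a := by
    have h2 : s⁻¹ * ⟨a, ha⟩ * s⁻¹⁻¹ ∈ C := by
      have := (Subgroup.mem_normalizer_iff.1 (inv_mem hsN) (⟨a, ha⟩ : (S : Subgroup X))).1 haC
      exact this
    have h3 := (hmemC _).1 h2
    simp only [mul_inv_rev, inv_inv, Subgroup.coe_mul, InvMemClass.coe_inv] at h3
    have h4 : (s : X)⁻¹ * a * (s : X) * a = a * ((s : X)⁻¹ * a * (s : X)) := h3
    show (s : X) * a * (s : X)⁻¹ * a = a * ((s : X) * a * (s : X)⁻¹)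
    have h5 : (s : X) * ((s : X)⁻¹ * a * (s : X) * a) * (s : X)⁻¹ =
        (s : X) * (a * ((s : X)⁻¹ * a * (s : X))) * (s : X)⁻¹ := by rw [h4]
    have e1 : (s : X) * ((s : X)⁻¹ * a * (s : X) * a) * (s : X)⁻¹ = a * ((s : X) * a * (s : X)⁻¹) := by
      group
    have e2 : (s : X) * (a * ((s : X)⁻¹ * a * (s : X))) * (s : X)⁻¹ =
        (s : X) * a * (s : X)⁻¹ * a := by group
    rw [e1, e2] at h5
    exact h5.symm
  have h6 := hiso s h1
  apply hsC
  rw [hmemC]
  have : (s : X) * a * (s : X)⁻¹ * (s : X) = a * (s : X) := by rw [h6]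
  simpa using this

/-- **`Z*` for isolated `2`-elements.** -/
theorem comm_core_of_isolated : ∀ (n : ℕ) (X : Type u) [Group X] [Finite X], Nat.card X = n →
    ∀ a : X, (∃ k : ℕ, orderOf a = 2 ^ k) → Isol a →
    ∀ g : X, g * a * g⁻¹ * a⁻¹ ∈ pPrimeCore 2 X := by
  intro n
  induction n using Nat.strong_induction_on with
  | _ n ih =>
  intro X _ _ hn a ha2 hiso
  classical
  haveI : Fact (Nat.Prime 2) := ⟨Nat.prime_two⟩
  -- Sylow subgroup containing `a`
  have hpa : IsPGroup 2 (zpowers a) := by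
    obtain ⟨k, hk⟩ := ha2
    apply IsPGroup.of_card (n := k)
    rw [Nat.card_zpowers, hk]
  obtain ⟨S, hS⟩ := hpa.exists_le_sylow
  have haS : a ∈ (S : Subgroup X) := hS (mem_zpowers a)
  have hcentral := central_in_sylow S haS hiso
  refine Cfsg.Agent.Lib.ZStar.Fus.central_of_fixed (Nat.card X) X rfl S a haS ?_
  rintro y ⟨i, rfl⟩ g hg
  simp only at hg ⊢
  set w := g * a ^ i * g⁻¹ with hw
  by_cases hwc : ∀ x : X, x * w = w * x
  · -- central
    have := hwc g⁻¹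
    have e : g⁻¹ * w * g = a ^ i := by rw [hw]; group
    have h2 : g⁻¹ * w * g = w := by
      rw [this]; group
    rw [← e, h2] 
  -- proper centralizer
  let H : Subgroup X := centralizer {w}
  have hHne : H ≠ ⊤ := by
    intro h
    apply hwc
    intro x
    have : x ∈ H := by rw [h]; trivial
    exact Subgroup.mem_centralizer_singleton_iff.1 this
  have hHcard : Nat.card H < n := by
    rw [← hn]
    exact Cfsg.Agent.Lib.ZStar.Main.card_lt_of_ne hHne
  have haH : a ∈ H := by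
    rw [Subgroup.mem_centralizer_singleton_iff]
    exact (hcentral w hg).symm
  have hgaH : g * a * g⁻¹ ∈ H := by
    rw [Subgroup.mem_centralizer_singleton_iff, hw]
    have e : g * a ^ i * g⁻¹ = (g * a * g⁻¹) ^ i := by
      rw [← conj_zpow]
    rw [e]
    exact ((Commute.refl (g * a * g⁻¹)).zpow_left i).eq.symm
  let a₁ : H := ⟨a, haH⟩
  let a₂ : H := ⟨g * a * g⁻¹, hgaH⟩
  have hiso₁ : Isol a₁ := by
    intro h hc
    apply Subtype.ext
    have hc' : Commute ((h : X) * a * (h : X)⁻¹) a := by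
      have := congrArg Subtype.val hc.eq
      exact this
    exact hiso h hc'
  have hiso₂ : Isol a₂ := by
    intro h hc
    apply Subtype.ext
    have hc' : Commute ((h : X) * (g * a * g⁻¹) * (h : X)⁻¹) (g * a * g⁻¹) := by
      have := congrArg Subtype.val hc.eq
      exact this
    show (h : X) * (g * a * g⁻¹) * (h : X)⁻¹ = g * a * g⁻¹
    have hc'' : Commute ((g⁻¹ * h * g) * a * (g⁻¹ * h * g)⁻¹) a := by
      show (g⁻¹ * h * g) * a * (g⁻¹ * h * g)⁻¹ * a = a * ((g⁻¹ * h * g) * a * (g⁻¹ * h * g)⁻¹)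
      have h7 := hc'.eq
      have h70 : g⁻¹ * (((h : X) * (g * a * g⁻¹) * (h : X)⁻¹) * (g * a * g⁻¹)) * g =
          g⁻¹ * ((g * a * g⁻¹) * ((h : X) * (g * a * g⁻¹) * (h : X)⁻¹)) * g := by rw [h7]
      have e1 : g⁻¹ * (((h : X) * (g * a * g⁻¹) * (h : X)⁻¹) * (g * a * g⁻¹)) * g =
          (g⁻¹ * h * g) * a * (g⁻¹ * h * g)⁻¹ * a := by group
      have e2 : g⁻¹ * ((g * a * g⁻¹) * ((h : X) * (g * a * g⁻¹) * (h : X)⁻¹)) * g =
          a * ((g⁻¹ * h * g) * a * (g⁻¹ * h * g)⁻¹) := by group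
      rw [e1, e2] at h70
      exact h70
    have h8 := hiso _ hc''
    have h9 : (h : X) * (g * a * g⁻¹) * (h : X)⁻¹ = g * ((g⁻¹ * h * g) * a * (g⁻¹ * h * g)⁻¹) * g⁻¹ := by
      group
    rw [h9, h8]
  have ha₁2 : ∃ k : ℕ, orderOf a₁ = 2 ^ k := by
    obtain ⟨k, hk⟩ := ha2
    refine ⟨k, ?_⟩
    rw [← hk]
    exact Subgroup.orderOf_mk a haH
  have ih₁ := ih (Nat.card H) hHcard H rfl a₁ ha₁2 hiso₁
  -- a Sylow subgroup of `H` containing `a₂`
  have hpa₂ : IsPGroup 2 (zpowers a₂) := by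
    obtain ⟨k, hk⟩ := ha2
    apply IsPGroup.of_card (n := k)
    rw [Nat.card_zpowers, ← hk]
    have : orderOf a₂ = orderOf (g * a * g⁻¹) := Subgroup.orderOf_mk _ hgaH
    rw [this]
    simpa using (MulAut.conj g).orderOf_eq a
  obtain ⟨S₃, hS₃⟩ := hpa₂.exists_le_sylow
  have ha₂S : a₂ ∈ (S₃ : Subgroup H) := hS₃ (mem_zpowers a₂)
  have hcentral₂ := central_in_sylow S₃ ha₂S hiso₂
  -- `a₁` lies in `S₃ O(H)`
  have hpa₁ : IsPGroup 2 (zpowers a₁) := by
    obtain ⟨k, hk⟩ := ha₁2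
    apply IsPGroup.of_card (n := k)
    rw [Nat.card_zpowers, hk]
  obtain ⟨x, hx⟩ := Cfsg.Agent.Lib.ZStar.Q8Basic.exists_conj_into_sylow S₃ hpa₁
  have hb := hx a₁ (mem_zpowers a₁)
  have hmod : QuotientGroup.mk' (pPrimeCore 2 H) a₁ ∈
      (S₃ : Subgroup H).map (QuotientGroup.mk' (pPrimeCore 2 H)) := by
    refine ⟨x⁻¹ * a₁ * x, hb, ?_⟩
    have h10 := ih₁ x⁻¹
    rw [inv_inv] at h10
    exact (QuotientGroup.eq_iff_div_mem).2 (by simpa [div_eq_mul_inv] using h10)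
  obtain ⟨o, ho, hoS⟩ := Cfsg.Agent.Lib.ZStar.Fus.exists_conj_into_of_map S₃ hpa₁ (fun u hu => by
    obtain ⟨j, rfl⟩ := hu
    simp only
    rw [map_zpow]
    exact zpow_mem hmod j)
  have hc₃ := hcentral₂ _ (hoS a₁ (mem_zpowers a₁))
  -- so `o a o⁻¹ = g a g⁻¹`
  have hc₄ : Commute (((g⁻¹ * (o : X))) * a * (g⁻¹ * (o : X))⁻¹) a := by
    have h11 : (o : X) * a * (o : X)⁻¹ * (g * a * g⁻¹) = (g * a * g⁻¹) * ((o : X) * a * (o : X)⁻¹) := by
      have := congrArg Subtype.val hc₃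
      exact this
    show (g⁻¹ * (o : X)) * a * (g⁻¹ * (o : X))⁻¹ * a = a * ((g⁻¹ * (o : X)) * a * (g⁻¹ * (o : X))⁻¹)
    have h12 : g⁻¹ * ((o : X) * a * (o : X)⁻¹ * (g * a * g⁻¹)) * g =
        g⁻¹ * ((g * a * g⁻¹) * ((o : X) * a * (o : X)⁻¹)) * g := by rw [h11]
    have e1 : g⁻¹ * ((o : X) * a * (o : X)⁻¹ * (g * a * g⁻¹)) * g =
        (g⁻¹ * (o : X)) * a * (g⁻¹ * (o : X))⁻¹ * a := by group
    have e2 : g⁻¹ * ((g * a * g⁻¹) * ((o : X) * a * (o : X)⁻¹)) * g =
        a * ((g⁻¹ * (o : X)) * a * (g⁻¹ * (o : X))⁻¹) := by group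
    rw [e1, e2] at h12
    exact h12
  have h13 := hiso _ hc₄
  have h14 : (o : X) * a * (o : X)⁻¹ = g * a * g⁻¹ := by
    have e : (o : X) * a * (o : X)⁻¹ = g * ((g⁻¹ * (o : X)) * a * (g⁻¹ * (o : X))⁻¹) * g⁻¹ := by group
    rw [e, h13]
  -- and now the power
  have h15 : (o : X) * a ^ i * (o : X)⁻¹ = w := by
    have e1 : (o : X) * a ^ i * (o : X)⁻¹ = ((o : X) * a * (o : X)⁻¹) ^ i := by rw [← conj_zpow]
    have e2 : g * a ^ i * g⁻¹ = (g * a * g⁻¹) ^ i := by rw [← conj_zpow]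
    rw [hw, e1, e2, h14]
  have hoH : (o : X) * w = w * (o : X) := (Subgroup.mem_centralizer_singleton_iff.1 o.2).symm ▸ rfl
  have h16 : a ^ i = (o : X)⁻¹ * w * (o : X) := by
    rw [← h15]; group
  rw [h16, mul_assoc, ← hoH]
  group

end

end Cfsg.Agent.Lib.IsoTwo
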